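import Groth.Agent.LocCohTor.Tower
import Mathlib.RingTheory.Filtration
import Mathlib.RingTheory.Polynomial.Basic
import Mathlib.Algebra.Polynomial.Div
import Mathlib.Algebra.Polynomial.Monic
import Mathlib.LinearAlgebra.StdBasis
import Mathlib.LinearAlgebra.FreeModule.Basic
import Mathlib.LinearAlgebra.Basis.Prod
import Mathlib.LinearAlgebra.TensorProduct.Quotient

/-!
A tower of finite free complexes of length `#s` resolving the quotients by the powers of an ideal
with `#s` generators up to pro-zero homology.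
-/

set_option linter.style.haveILetI false
set_option autoImplicit false
universe u

open TensorProduct Polynomial

namespace Groth.LocCohTor

variable {A : Type u} [CommRing A]

section Poly

variable (I' : Ideal A) (a : A)

/-- The ideal `(I', X)`. -/
noncomputable abbrev Jid : Ideal A[X] := I'.map C ⊔ Ideal.span {X}

lemma coeff_mem_of_mem_pow : ∀ (n : ℕ) (p : A[X]), p ∈ Jid I' ^ n →
    ∀ k, k < n → p.coeff k ∈ I' ^ (n - k) := by
  intro n
  induction n with
  | zero => intro p _ k hk; omega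
  | succ n ih =>
    intro p hp
    rw [pow_succ'] at hp
    have h0 : Jid I' ≤ I'.comap constantCoeff :=
      sup_le (Ideal.map_le_iff_le_comap.2 fun c hc => by simpa using hc)
        (Ideal.span_le.2 (by simp))
    induction hp using Submodule.mul_induction_on' with
    | mem_mul_mem r hr q hq =>
      intro k hk
      rw [coeff_mul]
      refine sum_mem fun ij hij => ?_
      rw [Finset.mem_antidiagonal] at hij
      rcases Nat.eq_zero_or_pos ij.1 with h | h
      · have hr0 : r.coeff ij.1 ∈ I' := h ▸ h0 hr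
        by_cases hj : ij.2 < n
        · rw [show n + 1 - k = n - ij.2 + 1 by omega, pow_succ']
          exact Ideal.mul_mem_mul hr0 (ih q hq _ hj)
        · rw [show n + 1 - k = 1 by omega, pow_one]
          exact Ideal.mul_mem_right _ _ hr0
      · exact Ideal.mul_mem_left _ _
          (Ideal.pow_le_pow_right (by omega) (ih q hq ij.2 (by omega)))
    | add x _ y _ hx hy =>
      intro k hk
      rw [coeff_add]
      exact add_mem (hx k hk) (hy k hk)

lemma mem_pow_of_coeff_mem {n : ℕ} {p : A[X]} (h : ∀ k, k < n → p.coeff k ∈ I' ^ (n - k)) :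
    p ∈ Jid I' ^ n := by
  rw [p.as_sum_support]
  refine sum_mem fun k _ => ?_
  rw [← C_mul_X_pow_eq_monomial]
  by_cases hk : k < n
  · have h1 : C (p.coeff k) ∈ Jid I' ^ (n - k) := by
      refine Ideal.pow_right_mono le_sup_left _ ?_
      rw [← Ideal.map_pow]
      exact Ideal.mem_map_of_mem _ (h k hk)
    have h2 : (X : A[X]) ^ k ∈ Jid I' ^ k :=
      Ideal.pow_mem_pow (Ideal.mem_sup_right (Ideal.mem_span_singleton_self X)) k
    have h3 := Ideal.mul_mem_mul h1 h2
    rwa [← pow_add, Nat.sub_add_cancel hk.le] at h3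
  · exact Ideal.mul_mem_left _ _ (Ideal.pow_le_pow_right (by omega)
      (Ideal.pow_mem_pow (Ideal.mem_sup_right (Ideal.mem_span_singleton_self X)) k))

lemma eval_mem_of_coeff_mem {I : Ideal A} (hI : I' ⊔ Ideal.span {a} = I) {n : ℕ} {p : A[X]}
    (h : ∀ k, k < n → p.coeff k ∈ I' ^ (n - k)) : p.eval a ∈ I ^ n := by
  have ha : a ∈ I := hI ▸ Ideal.mem_sup_right (Ideal.mem_span_singleton_self a)
  rw [eval_eq_sum]
  refine sum_mem fun k _ => ?_
  by_cases hk : k < n
  · have h3 := Ideal.mul_mem_mul (Ideal.pow_right_mono (hI ▸ le_sup_left : I' ≤ I) _ (h k hk))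
      (Ideal.pow_mem_pow ha k)
    rwa [← pow_add, Nat.sub_add_cancel hk.le] at h3
  · exact Ideal.mul_mem_left _ _ (Ideal.pow_le_pow_right (by omega) (Ideal.pow_mem_pow ha k))

lemma exists_eval_eq {I : Ideal A} (hI : I' ⊔ Ideal.span {a} = I) {n : ℕ} {x : A} (hx : x ∈ I ^ n) :
    ∃ q : A[X], (∀ k, k < n → q.coeff k ∈ I' ^ (n - k)) ∧ q.eval a = x := by
  have hmap : (Jid I').map (evalRingHom a) = I := by
    rw [Ideal.map_sup, Ideal.map_map, Ideal.map_span, Set.image_singleton, ← hI]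
    have hc : (evalRingHom a).comp (C : A →+* A[X]) = RingHom.id A := RingHom.ext fun c => by simp
    rw [hc, Ideal.map_id]
    simp
  rw [← hmap, ← Ideal.map_pow] at hx
  obtain ⟨q, hq, rfl⟩ := (Ideal.mem_map_iff_of_surjective (evalRingHom a)
    (fun c => ⟨C c, by simp⟩)).1 hx
  exact ⟨q, coeff_mem_of_mem_pow I' n q hq, rfl⟩

lemma exists_lag [IsNoetherianRing A] : ∃ c, ∀ n (p : A[X]),
    (X - C a) * p ∈ Jid I' ^ n → p ∈ Jid I' ^ (n - c) := by
  obtain ⟨c, hc⟩ := Ideal.exists_pow_inf_eq_pow_smul (M := A[X]) (Jid I') (Ideal.span {X - C a})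
  refine ⟨c, fun n p hp => ?_⟩
  by_cases hn : c ≤ n
  · have h1 : (X - C a) * p ∈ Jid I' ^ (n - c) * Ideal.span {X - C a} := by
      have h2 : (X - C a) * p ∈ Jid I' ^ n • (⊤ : Submodule A[X] A[X]) ⊓ Ideal.span {X - C a} := by
        refine ⟨?_, Ideal.mul_mem_right _ _ (Ideal.mem_span_singleton_self _)⟩
        rw [smul_eq_mul, Ideal.mul_top]
        exact hp
      rw [hc n hn] at h2
      exact (Submodule.smul_mono le_rfl inf_le_right : _ ≤ Jid I' ^ (n - c) • Ideal.span {X - C a}) h2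
    obtain ⟨z, hz, hzp⟩ := Ideal.mem_mul_span_singleton.1 h1
    rw [mul_comm z] at hzp
    exact (monic_X_sub_C a).isRegular.left hzp ▸ hz
  · rw [Nat.sub_eq_zero_of_le (by omega), pow_zero, Ideal.one_eq_top]
    trivial

end Poly

/-- An augmentation of a tower to the quotients by the powers of an ideal. -/
structure Aug (T : Tw A) (I : Ideal A) where
  ε : ∀ n, T.X n 0 →ₗ[A] A ⧸ I ^ n
  surj : ∀ n, Function.Surjective (ε n)
  ε_d : ∀ n x, ε n (T.d n 0 x) = 0
  ker : ∀ n, 1 ≤ n → ∀ x, ε n x = 0 → ∃ w, T.d n 0 w = x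
  natural : ∀ {m n : ℕ} (h : m ≤ n) (x : T.X n 0),
    ε m (T.π h 0 x) = Submodule.factor (Ideal.pow_le_pow_right h) (ε n x)

namespace Aug

variable {T : Tw A} {I' I : Ideal A} (g : Aug T I') (a : A) (hI : I' ⊔ Ideal.span {a} = I)

/-- The slots of `y` are the coefficients of `p`. -/
def Rep (n : ℕ) (y : T.E n 0) (p : A[X]) : Prop :=
  ∀ l : Fin n, g.ε (l.1 + 1) (y l) = Submodule.Quotient.mk (p.coeff (n - 1 - l.1))

lemma exists_rep_slots (n : ℕ) (p : A[X]) : ∃ y, g.Rep n y p := by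
  choose y hy using fun l : Fin n => g.surj (l.1 + 1) (Submodule.Quotient.mk (p.coeff (n - 1 - l.1)))
  exact ⟨y, hy⟩

lemma exists_poly (n : ℕ) (y : T.E n 0) : ∃ p : A[X], g.Rep n y p ∧ p.natDegree ≤ n ∧
    ∀ l : Fin n, g.ε (l.1 + 1) (y l) = Submodule.Quotient.mk (p.coeff (n - 1 - l.1)) := by
  classical
  choose c hc using fun l : Fin n => Submodule.Quotient.mk_surjective _ (g.ε (l.1 + 1) (y l))
  refine ⟨∑ l : Fin n, monomial (n - 1 - l.1) (c l), ?_, ?_, ?_⟩
  rotate_left
  · exact natDegree_sum_le_of_forall_le _ _ fun l _ => (natDegree_monomial_le _).trans (by omega)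
  all_goals
    intro l
    rw [finsetSum_coeff, Finset.sum_eq_single l, coeff_monomial, if_pos rfl, hc]
    · intro l' _ hne
      rw [coeff_monomial, if_neg]
      intro h
      exact hne (Fin.ext (by omega))
    · intro h
      exact absurd (Finset.mem_univ l) h

variable {g}

lemma Rep.coeff_sub {n : ℕ} {y : T.E n 0} {p q : A[X]} (hp : g.Rep n y p) (hq : g.Rep n y q) :
    ∀ k, k < n → (p - q).coeff k ∈ I' ^ (n - k) := by
  intro k hk
  have h1 := (hp ⟨n - 1 - k, by omega⟩).symm.trans (hq ⟨n - 1 - k, by omega⟩)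
  simp only at h1
  rw [Submodule.Quotient.eq, show n - 1 - (n - 1 - k) = k by omega,
    show n - 1 - k + 1 = n - k by omega] at h1
  rwa [Polynomial.coeff_sub]

lemma Rep.congr {n : ℕ} {y : T.E n 0} {p q : A[X]} (hp : g.Rep n y p)
    (h : ∀ k, k < n → (p - q).coeff k ∈ I' ^ (n - k)) : g.Rep n y q := by
  intro l
  rw [hp l, Submodule.Quotient.eq, ← Polynomial.coeff_sub]
  have h1 := h (n - 1 - l.1) (by omega)
  rwa [show n - (n - 1 - l.1) = l.1 + 1 by omega] at h1

lemma rep_dE {n : ℕ} (u : T.E n 1) : g.Rep n (T.dE n 0 u) 0 := fun l => by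
  rw [Tw.dE_apply, g.ε_d, coeff_zero, Submodule.Quotient.mk_zero]

lemma Rep.sub {n : ℕ} {y y' : T.E n 0} {p q : A[X]} (hp : g.Rep n y p) (hq : g.Rep n y' q) :
    g.Rep n (y - y') (p - q) := fun l => by
  rw [Pi.sub_apply, map_sub, hp l, hq l, Polynomial.coeff_sub, Submodule.Quotient.mk_sub]

lemma Rep.exists_dE {n : ℕ} {y : T.E n 0} (h : g.Rep n y 0) : ∃ u, T.dE n 0 u = y := by
  choose u hu using fun l : Fin n => g.ker (l.1 + 1) (by omega) (y l)
    (by rw [h l, coeff_zero, Submodule.Quotient.mk_zero])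
  exact ⟨u, funext hu⟩

lemma Rep.πE {m n : ℕ} (hmn : m ≤ n) {y : T.E n 0} {p : A[X]} (hp : g.Rep n y p) :
    g.Rep m (T.πE m n 0 y) p := fun l => by
  rw [Tw.πE, T.shift_apply_of_lt _ l (show l.1 + (n - m) < n by omega), g.natural,
    hp ⟨l.1 + (n - m), by omega⟩]
  rw [show n - 1 - (⟨l.1 + (n - m), by omega⟩ : Fin n).1 = m - 1 - l.1 by simp only; omega]
  rfl

lemma Rep.φ {n : ℕ} {y : T.E n 0} {p : A[X]} (hp : g.Rep n y p) :
    g.Rep n (T.φ a n 0 y) ((X - C a) * p) := fun l => by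
  rw [Tw.φ, LinearMap.sub_apply, Pi.sub_apply, LinearMap.smul_apply, LinearMap.id_apply,
    Pi.smul_apply, map_sub, map_smul, hp l, sub_mul, Polynomial.coeff_sub, coeff_C_mul,
    Submodule.Quotient.mk_sub]
  refine congrArg₂ (· - ·) ?_ rfl
  by_cases h : l.1 + 1 < n
  · rw [T.shift_apply_of_lt _ l h, g.natural, hp ⟨l.1 + 1, h⟩,
      show n - 1 - l.1 = n - 1 - (l.1 + 1) + 1 by omega, coeff_X_mul]
    rfl
  · rw [T.shift_apply_of_le _ l (by omega), map_zero, show n - 1 - l.1 = 0 by omega,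
      coeff_X_mul_zero, Submodule.Quotient.mk_zero]

variable (g)

include hI in
/-- The augmentation of the cone. -/
noncomputable def stepε (n : ℕ) : T.E n 0 →ₗ[A] A ⧸ I ^ n :=
  ∑ l : Fin n, (Submodule.mapQ (I' ^ (l.1 + 1)) (I ^ n) (LinearMap.lsmul A A (a ^ (n - 1 - l.1)))
    (fun x hx => by
      have h1 := Ideal.mul_mem_mul (Ideal.pow_mem_pow (hI ▸ Ideal.mem_sup_right
        (Ideal.mem_span_singleton_self a) : a ∈ I) (n - 1 - l.1))
        (Ideal.pow_right_mono (hI ▸ le_sup_left : I' ≤ I) _ hx)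
      rw [← pow_add, show n - 1 - l.1 + (l.1 + 1) = n by omega] at h1
      exact h1)).comp ((g.ε (l.1 + 1)).comp (LinearMap.proj l))

variable {g}

lemma stepε_eq {n : ℕ} {y : T.E n 0} {p : A[X]} (hp : g.Rep n y p) :
    g.stepε a hI n y = Submodule.Quotient.mk (p.eval a) := by
  classical
  set q := ∑ l : Fin n, monomial (n - 1 - l.1) (p.coeff (n - 1 - l.1))
  have hq : g.stepε a hI n y = Submodule.Quotient.mk (q.eval a) := by
    rw [stepε, LinearMap.sum_apply, eval_finsetSum, ← Submodule.mkQ_apply, map_sum]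
    refine Finset.sum_congr rfl fun l _ => ?_
    rw [LinearMap.comp_apply, LinearMap.comp_apply, LinearMap.proj_apply, hp l, Submodule.mapQ_apply,
      eval_monomial, mul_comm]
    rfl
  rw [hq, Submodule.Quotient.eq, ← eval_sub]
  refine eval_mem_of_coeff_mem I' a hI fun k hk => ?_
  have : q.coeff k = p.coeff k := by
    rw [finsetSum_coeff, Finset.sum_eq_single (⟨n - 1 - k, by omega⟩ : Fin n)]
    · rw [coeff_monomial, if_pos (by simp only; omega)]
      congr 1; simp only; omega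
    · intro l' _ hne
      rw [coeff_monomial, if_neg]
      intro h
      exact hne (Fin.ext (by simp only; omega))
    · intro h
      exact absurd (Finset.mem_univ _) h
  rw [Polynomial.coeff_sub, this, sub_self]
  exact zero_mem _

variable (g)

/-- The augmented cone. -/
noncomputable def step : Aug (T.step a) I where
  ε n := (g.stepε a hI n).comp (LinearMap.fst A (T.E n 0) (T.E' n 0))
  surj n x := by
    obtain ⟨c, rfl⟩ := Submodule.Quotient.mk_surjective _ x
    obtain ⟨y, hy⟩ := g.exists_rep_slots n (C c)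
    exact ⟨(y, 0), (stepε_eq a hI hy).trans (by rw [eval_C])⟩
  ε_d n z := by
    obtain ⟨u, y⟩ := z
    change g.stepε a hI n (T.dE n 0 u + T.φ a n 0 y) = 0
    obtain ⟨p, hp, -⟩ := g.exists_poly n y
    rw [map_add, stepε_eq a hI (rep_dE u), stepε_eq a hI (hp.φ a)]
    simp
  ker n _ z hz := by
    obtain ⟨y, y'⟩ := z
    change g.stepε a hI n y = 0 at hz
    obtain ⟨p, hp, -⟩ := g.exists_poly n y
    rw [stepε_eq a hI hp, Submodule.Quotient.mk_eq_zero] at hz
    obtain ⟨q, hq, hqe⟩ := exists_eval_eq I' a hI hz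
    obtain ⟨r, hr⟩ : X - C a ∣ p - q := by
      rw [dvd_iff_isRoot, IsRoot.def, eval_sub, hqe, sub_self]
    obtain ⟨w, hw⟩ := g.exists_rep_slots n r
    have h1 : g.Rep n y ((X - C a) * r) := hp.congr fun k hk => by
      rw [← hr, sub_sub_cancel]
      exact hq k hk
    have h2 := h1.sub (hw.φ a)
    rw [sub_self] at h2
    obtain ⟨u, hu⟩ := h2.exists_dE
    refine ⟨(u, w), Prod.ext ?_ (Subsingleton.elim (α := PUnit.{u + 1}) _ _)⟩
    change T.dE n 0 u + T.φ a n 0 w = y
    rw [hu, sub_add_cancel]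
  natural {m n} h z := by
    obtain ⟨y, y'⟩ := z
    change g.stepε a hI m (T.πE m n 0 y) = Submodule.factor _ (g.stepε a hI n y)
    obtain ⟨p, hp, -⟩ := g.exists_poly n y
    rw [stepε_eq a hI hp, stepε_eq a hI (hp.πE h)]
    rfl

include g

/-- The kernel condition for the tower itself. -/
theorem exists_kerPro [IsNoetherianRing A] : ∃ c, T.KerPro a c := by
  obtain ⟨c, hc⟩ := exists_lag I' a
  refine ⟨c, fun {m n} hmn hmc y u hu => ?_⟩
  obtain ⟨p, hp, -⟩ := g.exists_poly n y
  have h1 : g.Rep n (T.φ a n 0 y) 0 := hu ▸ rep_dE u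
  have h2 := ((hp.φ a).coeff_sub h1)
  rw [sub_zero] at h2
  have h3 := hc n p (mem_pow_of_coeff_mem I' h2)
  refine ((hp.πE hmn).congr fun k hk => ?_).exists_dE
  rw [sub_zero]
  exact coeff_mem_of_mem_pow I' m p (Ideal.pow_le_pow_right (by omega) h3) k hk

/-- The kernel condition after tensoring with a module killed by `I ^ m₀`. -/
theorem kerPro_tens {m₀ : ℕ} (hm : 1 ≤ m₀) (M : Type u) [AddCommGroup M] [Module A M]
    (hM' : ∀ b ∈ I' ^ m₀, ∀ x : M, b • x = 0) (ha : ∀ x : M, a ^ m₀ • x = 0) :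
    (T.tens M).KerPro a (2 * m₀) := by
  classical
  have hbot : ∀ n, m₀ ≤ n → (I' ^ n • ⊤ : Submodule A M) = ⊥ := fun n hn =>
    le_bot_iff.1 (Submodule.smul_le.2 fun b hb x _ =>
      (Submodule.mem_bot A).2 (hM' b (Ideal.pow_le_pow_right hn hb) x))
  let ψ : ∀ n, m₀ ≤ n → M ⊗[A] (A ⧸ I' ^ n) ≃ₗ[A] M := fun n hn =>
    (TensorProduct.tensorQuotEquivQuotSMul M (I' ^ n)).trans (Submodule.quotEquivOfEqBot _ (hbot n hn))
  have hψ : ∀ n hn (x : M) (r : A), ψ n hn (x ⊗ₜ Submodule.Quotient.mk r) = r • x := fun n hn x r => by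
    simp only [ψ, LinearEquiv.trans_apply]
    rw [Ideal.Quotient.mk_eq_mk]
    erw [TensorProduct.tensorQuotEquivQuotSMul_tmul_mk]
    rfl
  let εM : ∀ n, M ⊗[A] T.X n 0 →ₗ[A] M := fun n =>
    if hn : m₀ ≤ n then (ψ n hn).toLinearMap.comp ((g.ε n).lTensor M) else 0
  refine Tw.kerPro_of_const (T := T.tens M) εM (fun n hn x => ?_) (fun n hn x hx => ?_)
    (fun {m n} h hm' x => ?_) ha
  · simp only [εM, dif_pos hn]
    change ψ n hn ((g.ε n).lTensor M ((T.d n 0).lTensor M x)) = 0
    rw [← LinearMap.lTensor_comp_apply, show (g.ε n).comp (T.d n 0) = 0 from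
      LinearMap.ext (g.ε_d n), LinearMap.lTensor_zero, LinearMap.zero_apply, map_zero]
  · simp only [εM, dif_pos hn] at hx
    replace hx : (g.ε n).lTensor M x = 0 := (ψ n hn).map_eq_zero_iff.1 hx
    refine ((lTensor_exact M (f := T.d n 0) (g := g.ε n) (fun v => ⟨g.ker n (by omega) v, ?_⟩)
      (g.surj n)) x).1 hx
    rintro ⟨w, rfl⟩
    exact g.ε_d n w
  · simp only [εM, dif_pos hm', dif_pos (hm'.trans h)]
    change ψ m hm' ((g.ε m).lTensor M ((T.π h 0).lTensor M x)) = ψ n (hm'.trans h) ((g.ε n).lTensor M x)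
    induction x using TensorProduct.induction_on with
    | zero => simp only [map_zero]
    | add p q hp hq => simp only [map_add, hp, hq]
    | tmul x v =>
      simp only [LinearMap.lTensor_tmul, g.natural]
      obtain ⟨r, hr⟩ := Submodule.Quotient.mk_surjective _ (g.ε n v)
      rw [← hr]
      exact (hψ m hm' x r).trans (hψ n (hm'.trans h) x r).symm

end Aug

section Base

/-- The constant tower `A` in degree `0`. -/
noncomputable def base (A : Type u) [CommRing A] : Tw A where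
  X _ j := ModuleCat.of A (Fin (1 - j) → A)
  d _ _ := 0
  d_d _ _ _ := rfl
  π _ _ := LinearMap.id
  π_π _ _ _ _ := rfl
  d_π _ _ _ := rfl

/-- Its augmentation to `A / ⊥ ^ n`. -/
noncomputable def baseAug (A : Type u) [CommRing A] : Aug (base A) (⊥ : Ideal A) where
  ε n := (Submodule.mkQ ((⊥ : Ideal A) ^ n)).comp (LinearMap.proj (φ := fun _ : Fin 1 => A) 0)
  surj n x := by
    obtain ⟨c, rfl⟩ := Submodule.Quotient.mk_surjective _ x
    exact ⟨fun _ => c, rfl⟩
  ε_d n x := map_zero _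
  ker n hn x hx := by
    have h0 : (x : Fin 1 → A) 0 ∈ (⊥ : Ideal A) ^ n := (Submodule.Quotient.mk_eq_zero _).1 hx
    rw [← Ideal.zero_eq_bot, zero_pow (by omega), Ideal.zero_eq_bot, Ideal.mem_bot] at h0
    refine ⟨0, ?_⟩
    change (0 : Fin 1 → A) = x
    funext i
    rw [Subsingleton.elim i 0]
    exact h0.symm
  natural h x := rfl

end Base

/-- The tower of an ideal with `#s` generators. -/
theorem exists_tower [IsNoetherianRing A] (s : Finset A) :
    ∃ T : Tw A, Nonempty (Aug T (Ideal.span (s : Set A))) ∧ (∀ n j, Module.Free A (T.X n j)) ∧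
      (∀ n j, s.card < j → Subsingleton (T.X n j)) ∧ (∃ c, T.ProC c) ∧
      ∀ m₀, ∃ c, ∀ (M : Type u) [AddCommGroup M] [Module A M],
        (∀ b ∈ Ideal.span (s : Set A) ^ m₀, ∀ x : M, b • x = 0) → (T.tens M).ProC c := by
  classical
  induction s using Finset.induction_on with
  | empty =>
    have hsub : ∀ n j, 0 < j → Subsingleton ((base A).X n j) := fun n j hj => by
      haveI : IsEmpty (Fin (1 - j)) := by
        rw [Nat.sub_eq_zero_of_le (by omega)]; exact Fin.isEmpty
      exact inferInstanceAs (Subsingleton (Fin (1 - j) → A))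
    refine ⟨base A, ⟨by rw [Finset.coe_empty, Ideal.span_empty]; exact baseAug A⟩,
      fun n j => inferInstanceAs (Module.Free A (Fin (1 - j) → A)),
      fun n j hj => hsub n j (by simpa using hj), ⟨0, fun {m n} h _ j z _ => ⟨0, ?_⟩⟩,
      fun m₀ => ⟨0, fun M _ _ _ {m n} h _ j z _ => ⟨0, ?_⟩⟩⟩
    · haveI := hsub m (j + 1) (Nat.succ_pos j)
      exact Subsingleton.elim _ _
    · haveI := hsub m (j + 1) (Nat.succ_pos j)
      haveI : Subsingleton (M ⊗[A] (base A).X m (j + 1)) := inferInstance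
      exact Subsingleton.elim (α := M ⊗[A] (base A).X m (j + 1)) _ _
  | insert a s has ih =>
    obtain ⟨T, ⟨g⟩, hfree, hsub, ⟨c, hc⟩, hM⟩ := ih
    set I' := Ideal.span (s : Set A)
    have hI : I' ⊔ Ideal.span {a} = Ideal.span ((insert a s : Finset A) : Set A) := by
      rw [Finset.coe_insert, Ideal.span_insert, sup_comm]
    haveI := hfree
    refine ⟨T.step a, ⟨g.step a hI⟩, fun n j => ?_, fun n j hj => ?_, ?_, fun m₀ => ?_⟩
    · haveI : Module.Free A (T.E' n j) := by
        cases j with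
        | zero => exact Module.Free.of_subsingleton A PUnit.{u + 1}
        | succ j => exact inferInstanceAs (Module.Free A (T.E n j))
      exact inferInstanceAs (Module.Free A (T.E n j × T.E' n j))
    · rw [Finset.card_insert_of_notMem has] at hj
      obtain ⟨j, rfl⟩ : ∃ i, j = i + 1 := ⟨j - 1, by omega⟩
      haveI : ∀ l : Fin n, Subsingleton (T.X (l.1 + 1) (j + 1)) := fun l => hsub _ _ (by omega)
      haveI : ∀ l : Fin n, Subsingleton (T.X (l.1 + 1) j) := fun l => hsub _ _ (by omega)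
      exact inferInstanceAs (Subsingleton (T.E n (j + 1) × T.E n j))
    · obtain ⟨cK, hK⟩ := g.exists_kerPro a
      exact ⟨_, Tw.proC_step hc hK⟩
    · obtain ⟨cM, hcM⟩ := hM (m₀ + 1)
      refine ⟨max cM (2 * (m₀ + 1)) + cM, fun M _ _ hk => ?_⟩
      have hk' : ∀ b ∈ Ideal.span ((insert a s : Finset A) : Set A) ^ (m₀ + 1), ∀ x : M, b • x = 0 :=
        fun b hb => hk b (Ideal.pow_le_pow_right (by omega) hb)
      have h' : ∀ b ∈ I' ^ (m₀ + 1), ∀ x : M, b • x = 0 :=
        fun b hb => hk' b (Ideal.pow_right_mono (hI ▸ le_sup_left) _ hb)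
      refine T.proC_tens_step a M (Tw.proC_step (hcM M h') (g.kerPro_tens a (by omega) M h' ?_))
      exact hk' _ (Ideal.pow_mem_pow (hI ▸ Ideal.mem_sup_right (Ideal.mem_span_singleton_self a)) _)

end Groth.LocCohTor
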