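import Groth.Agent.LocCohTor.Augmented
import Groth.Prelude.Def_DRing2
import Mathlib.Algebra.Category.ModuleCat.Monoidal.Closed
import Mathlib.Algebra.Category.ModuleCat.Projective
import Mathlib.Algebra.Homology.Linear
import Mathlib.Algebra.Homology.ShortComplex.ModuleCat
import Mathlib.Algebra.Homology.ShortComplex.Linear

/-!
The maps `Tor(M, A / I ^ n) → Tor(M, A / I ^ (n - c))` vanish uniformly.
-/

set_option linter.style.haveILetI false
set_option autoImplicit false
universe u

open CategoryTheory MonoidalCategory Limits TensorProduct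

namespace Groth.LocCohTor

variable {A : Type u} [CommRing A]

/-- The complex at a level of a tower. -/
noncomputable def level (T : Tw A) (m : ℕ) : ChainComplex (ModuleCat.{u} A) ℕ :=
  ChainComplex.of (T.X m) (fun j => ModuleCat.ofHom (T.d m j)) fun j =>
    ModuleCat.hom_ext (LinearMap.ext (T.d_d m j))

lemma level_d (T : Tw A) (m j : ℕ) : (level T m).d (j + 1) j = ModuleCat.ofHom (T.d m j) :=
  ChainComplex.of_d (X := T.X m) (d := fun j => ModuleCat.ofHom (T.d m j)) j

/-- A tower of complexes of projectives lifts, losing the lag in each degree. -/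
theorem exists_lift (S : ChainComplex (ModuleCat.{u} A) ℕ) (hS : ∀ j, Module.Projective A (S.X j))
    {T : Tw A} {c : ℕ} (hT : T.ProC c) (n : ℕ) (f₀ : S.X 0 →ₗ[A] T.X n 0)
    (h₀ : ∀ x : S.X 1, ∃ w, T.d n 0 w = f₀ ((S.d 1 0).hom x)) :
    ∀ k m, ∀ h : m ≤ n, m + k * c ≤ n → ∃ f : ∀ j, S.X j →ₗ[A] T.X m j,
      f 0 = (T.π h 0).comp f₀ ∧
        ∀ j, j < k → ∀ x, T.d m j (f (j + 1) x) = f j ((S.d (j + 1) j).hom x) := by
  intro k
  induction k with
  | zero =>
    intro m h _
    exact ⟨fun j => match j with | 0 => (T.π h 0).comp f₀ | _ + 1 => 0, rfl,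
      fun j hj => absurd hj (Nat.not_lt_zero j)⟩
  | succ k ih =>
    intro m h hm
    rw [Nat.succ_mul] at hm
    obtain ⟨f, hf₀, hf⟩ := ih (m + c) (by omega) (by omega)
    let g : ∀ j, S.X j →ₗ[A] T.X m j := fun j => (T.π (Nat.le_add_right m c) j).comp (f j)
    have hrange : ∀ x : S.X (k + 1), g k ((S.d (k + 1) k).hom x) ∈ LinearMap.range (T.d m k) := by
      intro x
      cases k with
      | zero =>
        obtain ⟨w, hw⟩ := h₀ x
        refine ⟨T.π h 1 w, ?_⟩
        rw [T.d_π, hw]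
        change T.π h 0 _ = T.π _ 0 (f 0 _)
        rw [hf₀, LinearMap.comp_apply, T.π_π]
      | succ k =>
        refine hT _ (le_refl _) k (f (k + 1) ((S.d (k + 2) (k + 1)).hom x)) ?_
        rw [hf k (Nat.lt_succ_self k), ← ModuleCat.comp_apply, HomologicalComplex.d_comp_d]
        exact map_zero _
    haveI := hS (k + 1)
    obtain ⟨w, hw⟩ := Module.projective_lifting_property (T.d m k).rangeRestrict
      (((g k).comp (S.d (k + 1) k).hom).codRestrict (LinearMap.range (T.d m k)) hrange)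
      (T.d m k).surjective_rangeRestrict
    refine ⟨Function.update g (k + 1) w, ?_, fun j hj x => ?_⟩
    · rw [Function.update_of_ne (by omega)]
      refine LinearMap.ext fun x => ?_
      simp only [g, hf₀, LinearMap.comp_apply, T.π_π]
    · rw [Function.update_of_ne (show j ≠ k + 1 by omega)]
      rcases Nat.lt_or_eq_of_le (Nat.le_of_lt_succ hj) with hj | rfl
      · rw [Function.update_of_ne (show j + 1 ≠ k + 1 by omega)]
        simp only [g, LinearMap.comp_apply]
        rw [T.d_π, hf j hj]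
      · rw [Function.update_self]
        exact congrArg Subtype.val (LinearMap.congr_fun hw x)

/-- Make a chain map. -/
noncomputable def mkHom {S T : ChainComplex (ModuleCat.{u} A) ℕ}
    (f : ∀ j, S.X j →ₗ[A] T.X j)
    (h : ∀ j x, (T.d (j + 1) j).hom (f (j + 1) x) = f j ((S.d (j + 1) j).hom x)) : S ⟶ T where
  f j := ModuleCat.ofHom (f j)
  comm' i j hij := by
    obtain rfl : j + 1 = i := hij
    exact ModuleCat.hom_ext (LinearMap.ext fun x => h j x)

/-- The transition between two levels. -/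
noncomputable def levelπ (T : Tw A) {m n : ℕ} (h : m ≤ n) : level T n ⟶ level T m :=
  mkHom (fun j => T.π h j) fun j x => by
    rw [level_d, level_d]
    exact T.d_π h j x

/-- The constant tower of a complex. -/
noncomputable def constTw (Q : ChainComplex (ModuleCat.{u} A) ℕ) : Tw A where
  X _ j := Q.X j
  d _ j := (Q.d (j + 1) j).hom
  d_d _ j x := by rw [← ModuleCat.comp_apply, HomologicalComplex.d_comp_d]; rfl
  π _ _ := LinearMap.id
  π_π _ _ _ _ := rfl
  d_π _ _ _ := rfl

variable {I : Ideal A}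

/-- The projection `A / I ^ n → A / I ^ m`. -/
noncomputable abbrev proj (I : Ideal A) {m n : ℕ} (h : m ≤ n) :
    ModuleCat.of A (A ⧸ I ^ n) ⟶ ModuleCat.of A (A ⧸ I ^ m) :=
  ModuleCat.ofHom (Submodule.mapQ (I ^ n) (I ^ m) LinearMap.id (Ideal.pow_le_pow_right h))

section Res

variable {Y : ModuleCat.{u} A} (P : ProjectiveResolution Y)

lemma proj_projective (j : ℕ) : Module.Projective A (P.complex.X j) :=
  haveI := P.projective j
  ModuleCat.projective_of_module_projective _

lemma π_surjective : Function.Surjective (P.π.f 0).hom :=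
  (ModuleCat.epi_iff_surjective _).1 inferInstance

lemma π_d (x : P.complex.X 1) : (P.π.f 0).hom ((P.complex.d 1 0).hom x) = 0 := by
  rw [← ModuleCat.comp_apply, P.complex_d_comp_π_f_zero]
  rfl

lemma exists_of_π_eq_zero (x : P.complex.X 0) (hx : (P.π.f 0).hom x = 0) :
    ∃ w, (P.complex.d 1 0).hom w = x :=
  (ShortComplex.moduleCat_exact_iff _).1 P.exact₀ x hx

lemma exists_of_d_eq_zero (j : ℕ) (x : P.complex.X (j + 1)) (hx : (P.complex.d (j + 1) j).hom x = 0) :
    ∃ w, (P.complex.d (j + 2) (j + 1)).hom w = x :=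
  (ShortComplex.moduleCat_exact_iff _).1 (P.exact_succ j) x hx

end Res

/-- Resolutions of the quotients factor through the tower. -/
theorem exists_factor {T : Tw A} (g : Aug T I) {c t : ℕ} (hc : T.ProC c)
    (hfree : ∀ n j, Module.Free A (T.X n j)) (hsub : ∀ n j, t < j → Subsingleton (T.X n j))
    {n m : ℕ} (P : ProjectiveResolution (ModuleCat.of A (A ⧸ I ^ n)))
    (Q : ProjectiveResolution (ModuleCat.of A (A ⧸ I ^ m))) (hn : 1 ≤ n) :
    ∀ {k l : ℕ} (hlk : l ≤ k) (hkn : k ≤ n) (hml : m ≤ l), k + (t + 1) * c ≤ n →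
      ∃ (φ : P.complex ⟶ level T k) (ψ : level T l ⟶ Q.complex),
        (φ ≫ levelπ T hlk ≫ ψ) ≫ Q.π =
          P.π ≫ (ChainComplex.single₀ _).map (proj I (hml.trans (hlk.trans hkn))) := by
  intro k l hlk hkn hml hkc
  haveI := proj_projective P 0
  haveI := hfree l 0
  obtain ⟨a₀, ha₀⟩ := Module.projective_lifting_property (g.ε n) (P.π.f 0).hom (g.surj n)
  obtain ⟨f, hf₀, hf⟩ := exists_lift P.complex (proj_projective P) hc n a₀ (fun x => g.ker n hn _ (by
    exact (LinearMap.congr_fun ha₀ _).trans (π_d P x))) (t + 1) k hkn hkc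
  obtain ⟨b₀, hb₀⟩ := Module.projective_lifting_property (Q.π.f 0).hom
    ((Submodule.factor (Ideal.pow_le_pow_right hml)).comp (g.ε l)) (π_surjective Q)
  have hQ : (constTw Q.complex).ProC 0 := fun _ _ _ _ j z hz => exists_of_d_eq_zero Q j z hz
  obtain ⟨e, he₀, he⟩ := exists_lift (level T l)
    (fun j => haveI := hfree l j; inferInstanceAs (Module.Projective A (T.X l j))) hQ 0 b₀
    (fun x => exists_of_π_eq_zero Q _ (by
      refine (LinearMap.congr_fun hb₀ _).trans ?_
      rw [level_d]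
      exact (congrArg _ (g.ε_d l x)).trans (map_zero _))) t 0 le_rfl (by omega)
  let φ : P.complex ⟶ level T k := mkHom f fun j x => by
    rw [level_d]
    rcases Nat.lt_or_ge j (t + 1) with hj | hj
    · exact hf j hj x
    · haveI := hsub k j (by omega)
      exact Subsingleton.elim (α := T.X k j) _ _
  let ψ : level T l ⟶ Q.complex := mkHom e fun j x => by
    rcases Nat.lt_or_ge j t with hj | hj
    · exact he j hj x
    · haveI := hsub l (j + 1) (by omega)
      rw [Subsingleton.elim (α := T.X l (j + 1)) x 0]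
      exact (congrArg _ (map_zero (e (j + 1)))).trans ((map_zero _).trans
        ((congrArg _ (map_zero _)).trans (map_zero (e j))).symm)
  refine ⟨φ, ψ, HomologicalComplex.to_single_hom_ext ?_⟩
  refine ModuleCat.hom_ext (LinearMap.ext fun x => ?_)
  rw [HomologicalComplex.comp_f, HomologicalComplex.comp_f]
  change (Q.π.f 0).hom (e 0 (T.π hlk 0 (f 0 x))) =
    (proj I (hml.trans (hlk.trans hkn))).hom ((P.π.f 0).hom x)
  rw [he₀, hf₀]
  refine (LinearMap.congr_fun hb₀ _).trans ?_
  change Submodule.factor (Ideal.pow_le_pow_right hml) (g.ε l (T.π hlk 0 (T.π hkn 0 (a₀ x)))) = _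
  rw [T.π_π, g.natural]
  obtain ⟨r, hr⟩ := Submodule.Quotient.mk_surjective _ (g.ε n (a₀ x))
  rw [← hr, show (P.π.f 0).hom x = Submodule.Quotient.mk r from (LinearMap.congr_fun ha₀ x).symm.trans hr.symm]
  rfl

/-- A map sending cycles to boundaries is zero on homology. -/
lemma homologyMap_eq_zero {S Q : ChainComplex (ModuleCat.{u} A) ℕ} (f : S ⟶ Q) (i : ℕ)
    (h : ∀ x : S.X (i + 1), (S.d (i + 1) i).hom x = 0 →
      ∃ w, (Q.d (i + 2) (i + 1)).hom w = (f.f (i + 1)).hom x) :
    HomologicalComplex.homologyMap f (i + 1) = 0 := by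
  refine ModuleCat.hom_ext (LinearMap.ext fun y => ?_)
  obtain ⟨z, rfl⟩ := (ModuleCat.epi_iff_surjective (S.homologyπ (i + 1))).1 inferInstance y
  obtain ⟨w, hw⟩ := h ((S.iCycles (i + 1)).hom z) (by
    rw [← ModuleCat.comp_apply, HomologicalComplex.iCycles_d]; rfl)
  have hz : (HomologicalComplex.cyclesMap f (i + 1)).hom z =
      (Q.toCycles (i + 2) (i + 1)).hom w := by
    refine (ModuleCat.mono_iff_injective (Q.iCycles (i + 1))).1 inferInstance ?_
    rw [← ModuleCat.comp_apply, ← ModuleCat.comp_apply, HomologicalComplex.cyclesMap_i,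
      HomologicalComplex.toCycles_i, ModuleCat.comp_apply]
    exact hw.symm
  rw [← ModuleCat.comp_apply, HomologicalComplex.homologyπ_naturality, ModuleCat.comp_apply, hz,
    ← ModuleCat.comp_apply, HomologicalComplex.toCycles_comp_homologyπ]
  rfl

/-- The map on Tor computed from a lift. -/
lemma tor_map_eq_zero {M Y Z : ModuleCat.{u} A} (f : Y ⟶ Z) (P : ProjectiveResolution Y)
    (Q : ProjectiveResolution Z) (h : P.complex ⟶ Q.complex)
    (w : h ≫ Q.π = P.π ≫ (ChainComplex.single₀ _).map f) (i : ℕ)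
    (hz : HomologicalComplex.homologyMap
      ((((tensoringLeft (ModuleCat.{u} A)).obj M).mapHomologicalComplex _).map h) i = 0) :
    ((Tor (ModuleCat.{u} A) i).obj M).map f = 0 := by
  refine (Functor.leftDerived_map_eq ((tensoringLeft (ModuleCat.{u} A)).obj M) i f h w).trans ?_
  change _ ≫ HomologicalComplex.homologyMap _ i ≫ _ = 0
  rw [hz, zero_comp, comp_zero]
  rfl

variable [IsNoetherianRing A]

/-- Above the number of generators the maps on Tor vanish uniformly. -/
theorem exists_vanish_above (I : Ideal A) (t : ℕ) (s : Finset A)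
    (hs : I = Ideal.span (s : Set A)) (ht : s.card ≤ t) :
    ∃ c, 1 ≤ c ∧ ∀ (M : ModuleCat.{u} A) (i : ℕ), t < i → ∀ {m n : ℕ} (h : m ≤ n), m + c ≤ n →
      ((Tor (ModuleCat.{u} A) i).obj M).map (proj I h) = 0 := by
  obtain ⟨T, ⟨g⟩, hfree, hsub, ⟨c, hc⟩, -⟩ := exists_tower s
  subst hs
  refine ⟨(t + 1) * c + 1, Nat.le_add_left 1 _, fun M i hi m n h hmn => ?_⟩
  obtain ⟨P⟩ := (inferInstance : HasProjectiveResolution (ModuleCat.of A (A ⧸ Ideal.span (s : Set A) ^ n))).out
  obtain ⟨Q⟩ := (inferInstance : HasProjectiveResolution (ModuleCat.of A (A ⧸ Ideal.span (s : Set A) ^ m))).out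
  obtain ⟨φ, ψ, w⟩ := exists_factor g hc hfree (fun n j hj => hsub n j (lt_of_le_of_lt ht hj)) P Q
    (by omega) (le_refl m) h (le_refl m) (by omega)
  refine tor_map_eq_zero _ P Q _ w i ?_
  obtain ⟨i, rfl⟩ : ∃ j, i = j + 1 := ⟨i - 1, by omega⟩
  refine homologyMap_eq_zero _ i fun x _ => ⟨0, ?_⟩
  haveI := hsub m (i + 1) (lt_of_le_of_lt ht hi)
  have h0 : (φ ≫ levelπ T (le_refl m) ≫ ψ).f (i + 1) = 0 := by
    refine ModuleCat.hom_ext (LinearMap.ext fun y => ?_)
    change (ψ.f (i + 1)).hom (T.π _ (i + 1) ((φ.f (i + 1)).hom y)) = 0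
    rw [Subsingleton.elim (α := T.X m (i + 1)) (T.π _ _ _) 0]
    exact map_zero _
  rw [map_zero, Functor.mapHomologicalComplex_map_f, h0, Functor.map_zero]
  rfl

/-- For modules killed by a power of the ideal the maps on positive Tor vanish uniformly. -/
theorem exists_vanish_killed (I : Ideal A) (m₀ : ℕ) :
    ∃ c, 1 ≤ c ∧ ∀ (M : Type u) [AddCommGroup M] [Module A M],
      (∀ b ∈ I ^ m₀, ∀ x : M, b • x = 0) → ∀ i, 0 < i → ∀ {m n : ℕ} (h : m ≤ n), m + c ≤ n →
        ((Tor (ModuleCat.{u} A) i).obj (ModuleCat.of A M)).map (proj I h) = 0 := by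
  obtain ⟨s, hs⟩ := IsNoetherian.noetherian I
  obtain rfl : Ideal.span (s : Set A) = I := hs
  obtain ⟨T, ⟨g⟩, hfree, hsub, ⟨c, hc⟩, hM⟩ := exists_tower s
  obtain ⟨cM, hcM⟩ := hM m₀
  refine ⟨(s.card + 1) * c + cM + 1, Nat.le_add_left 1 _, fun M _ _ hk i hi m n h hmn => ?_⟩
  obtain ⟨P⟩ := (inferInstance : HasProjectiveResolution (ModuleCat.of A (A ⧸ Ideal.span (s : Set A) ^ n))).out
  obtain ⟨Q⟩ := (inferInstance : HasProjectiveResolution (ModuleCat.of A (A ⧸ Ideal.span (s : Set A) ^ m))).out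
  obtain ⟨φ, ψ, w⟩ := exists_factor g hc hfree hsub P Q (by omega)
    (Nat.le_add_right m cM) (show m + cM ≤ n by omega) (le_refl m) (by omega)
  refine tor_map_eq_zero _ P Q _ w i ?_
  obtain ⟨i, rfl⟩ : ∃ j, i = j + 1 := ⟨i - 1, by omega⟩
  set F := ((tensoringLeft (ModuleCat.{u} A)).obj (ModuleCat.of A M))
  rw [Functor.map_comp, Functor.map_comp, HomologicalComplex.homologyMap_comp,
    HomologicalComplex.homologyMap_comp]
  suffices HomologicalComplex.homologyMap
      ((F.mapHomologicalComplex _).map (levelπ T (Nat.le_add_right m cM))) (i + 1) = 0 by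
    rw [this, zero_comp, comp_zero]
  refine homologyMap_eq_zero _ i fun x hx => ?_
  have hd : ∀ k j, ((F.mapHomologicalComplex _).obj (level T k)).d (j + 1) j =
      ModuleCat.ofHom ((T.d k j).lTensor M) := fun k j => by
    rw [Functor.mapHomologicalComplex_obj_d, level_d]
    rfl
  rw [hd] at hx
  obtain ⟨v, hv⟩ := hcM M hk (Nat.le_add_right m cM) le_rfl i x hx
  exact ⟨v, (congrArg (fun q => q.hom v) (hd m (i + 1))).trans hv⟩

/-- Uniform annihilation above the number of generators. -/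
theorem exists_annihilate (I : Ideal A) (t : ℕ) (s : Finset A)
    (hs : I = Ideal.span (s : Set A)) (ht : s.card ≤ t) :
    ∃ c : ℕ, ∀ (M : Type u) [AddCommGroup M] [Module A M] (i q : ℕ), t < i →
      ∀ a ∈ I ^ c, ∀ x : DRing.Tor A i M (A ⧸ I ^ q), a • x = 0 := by
  obtain ⟨c, -, hc⟩ := exists_vanish_above I t s hs ht
  refine ⟨c, fun M _ _ i q hi a ha x => ?_⟩
  let μ : ModuleCat.of A (A ⧸ I ^ q) ⟶ ModuleCat.of A (A ⧸ I ^ (q + c)) :=
    ModuleCat.ofHom (Submodule.mapQ (I ^ q) (I ^ (q + c)) (LinearMap.lsmul A A a) (fun y hy => by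
      have h1 := Ideal.mul_mem_mul ha hy
      rw [← pow_add, Nat.add_comm] at h1
      exact h1))
  set F := ((tensoringLeft (ModuleCat.{u} A)).obj (ModuleCat.of A M))
  obtain ⟨P⟩ := (inferInstance : HasProjectiveResolution (ModuleCat.of A (A ⧸ I ^ q))).out
  have h1 : (F.leftDerived i).map (a • 𝟙 (ModuleCat.of A (A ⧸ I ^ q))) = a • 𝟙 _ := by
    rw [Functor.leftDerived_map_eq F i _ (a • 𝟙 P.complex) (P := P) (Q := P) (by
      refine HomologicalComplex.to_single_hom_ext (ModuleCat.hom_ext (LinearMap.ext fun y => ?_))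
      exact map_smul (P.π.f 0).hom a y)]
    have hG : (F.mapHomologicalComplex _ ⋙ HomologicalComplex.homologyFunctor _ _ i).map
        (a • 𝟙 P.complex) = a • 𝟙 _ := by
      have hF : (F.mapHomologicalComplex _).map (a • 𝟙 P.complex) = a • 𝟙 _ := by
        refine HomologicalComplex.hom_ext _ _ fun j => ?_
        simp [HomologicalComplex.smul_f_apply]
      rw [Functor.comp_map, hF]
      refine Eq.trans (ShortComplex.homologyMap_smul
        (φ := 𝟙 (((F.mapHomologicalComplex _).obj P.complex).sc i)) (a := a)) ?_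
      rw [ShortComplex.homologyMap_id]
      rfl
    rw [hG, Linear.smul_comp, Linear.comp_smul]
    erw [Category.id_comp]
    rw [Iso.hom_inv_id]
  have h2 : a • 𝟙 (ModuleCat.of A (A ⧸ I ^ q)) = μ ≫ proj I (Nat.le_add_right q c) := by
    refine ModuleCat.hom_ext (LinearMap.ext fun y => ?_)
    obtain ⟨r, rfl⟩ := Submodule.Quotient.mk_surjective _ y
    rfl
  rw [h2, Functor.map_comp,
    show (F.leftDerived i).map (proj I (Nat.le_add_right q c)) = 0 from
      hc (ModuleCat.of A M) i hi _ le_rfl, comp_zero] at h1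
  exact ((LinearMap.congr_fun (congrArg ModuleCat.Hom.hom h1) x)).symm

end Groth.LocCohTor
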