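import Mathlib.Algebra.Category.ModuleCat.Basic
import Mathlib.LinearAlgebra.TensorProduct.Pi
import Mathlib.LinearAlgebra.TensorProduct.Prod
import Mathlib.LinearAlgebra.TensorProduct.RightExactness

/-!
Towers of complexes and their pro-exactness: adjoining one element.
-/

set_option linter.style.haveILetI false
set_option autoImplicit false
universe u

open TensorProduct

namespace Groth.LocCohTor

variable (A : Type u) [CommRing A]

/-- A tower of complexes of modules. -/
structure Tw where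
  X : ℕ → ℕ → ModuleCat.{u} A
  d : ∀ n j, X n (j + 1) →ₗ[A] X n j
  d_d : ∀ n j (x : X n (j + 1 + 1)), d n j (d n (j + 1) x) = 0
  π : ∀ {m n : ℕ}, m ≤ n → ∀ j, X n j →ₗ[A] X m j
  π_π : ∀ {k m n : ℕ} (h₁ : k ≤ m) (h₂ : m ≤ n) (j : ℕ) (x : X n j),
    π h₁ j (π h₂ j x) = π (h₁.trans h₂) j x
  d_π : ∀ {m n : ℕ} (h : m ≤ n) (j : ℕ) (x : X n (j + 1)), d m j (π h (j + 1) x) = π h j (d n j x)

variable {A}

namespace Tw

variable (T : Tw A) (a : A)

/-- The tower is pro-exact in positive degrees, with lag `c`. -/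
def ProC (c : ℕ) : Prop :=
  ∀ ⦃m n : ℕ⦄ (h : m ≤ n), m + c ≤ n → ∀ (j : ℕ) (z : T.X n (j + 1)), T.d n j z = 0 →
    ∃ w, T.d m (j + 1) w = T.π h (j + 1) z

lemma π_congr {n : ℕ} {j : ℕ} (x : ∀ l : Fin n, T.X (l.1 + 1) j) {l l' : Fin n} (e : l = l')
    {k : ℕ} (h : k ≤ l.1 + 1) (h' : k ≤ l'.1 + 1) : T.π h j (x l) = T.π h' j (x l') := by
  subst e; rfl

/-- The slots `l < n`, slot `l` of level `l + 1`. -/
abbrev E (n j : ℕ) : Type u := (l : Fin n) → T.X (l.1 + 1) j

/-- Shift the slots by `s`. -/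
noncomputable def shift (m n s j : ℕ) : T.E n j →ₗ[A] T.E m j :=
  LinearMap.pi fun l => if h : l.1 + s < n then
    (T.π (show l.1 + 1 ≤ l.1 + s + 1 by omega) j).comp (LinearMap.proj (⟨l.1 + s, h⟩ : Fin n)) else 0

lemma shift_apply_of_lt {m n s j : ℕ} (x : T.E n j) (l : Fin m) (h : l.1 + s < n) :
    T.shift m n s j x l = T.π (show l.1 + 1 ≤ l.1 + s + 1 by omega) j (x ⟨l.1 + s, h⟩) := by
  simp only [shift, LinearMap.pi_apply]
  rw [dif_pos h]
  rfl

lemma shift_apply_of_le {m n s j : ℕ} (x : T.E n j) (l : Fin m) (h : n ≤ l.1 + s) :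
    T.shift m n s j x l = 0 := by
  simp only [shift, LinearMap.pi_apply]
  rw [dif_neg (by omega)]
  rfl

lemma shift_shift {m k n s s' j : ℕ} (hk : n ≤ k + s') (x : T.E n j) :
    T.shift m k s j (T.shift k n s' j x) = T.shift m n (s + s') j x := by
  funext l
  by_cases h : l.1 + (s + s') < n
  · rw [T.shift_apply_of_lt _ l (show l.1 + s < k by omega),
      T.shift_apply_of_lt _ (⟨l.1 + s, by omega⟩ : Fin k) (show l.1 + s + s' < n by omega),
      T.shift_apply_of_lt _ l h, T.π_π]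
    refine T.π_congr x (l := (⟨l.1 + s + s', by omega⟩ : Fin n)) (l' := (⟨l.1 + (s + s'), h⟩ : Fin n)) ?_ _ _
    exact Fin.ext (by simp only; omega)
  · rw [T.shift_apply_of_le _ l (show n ≤ l.1 + (s + s') by omega)]
    by_cases h' : l.1 + s < k
    · rw [T.shift_apply_of_lt _ l h',
        T.shift_apply_of_le _ (⟨l.1 + s, h'⟩ : Fin k) (show n ≤ l.1 + s + s' by omega), map_zero]
    · exact T.shift_apply_of_le _ l (by omega)

/-- The differential of the slots. -/
noncomputable def dE (n j : ℕ) : T.E n (j + 1) →ₗ[A] T.E n j :=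
  LinearMap.pi fun l => (T.d (l.1 + 1) j).comp (LinearMap.proj l)

@[simp] lemma dE_apply {n j : ℕ} (x : T.E n (j + 1)) (l : Fin n) :
    T.dE n j x l = T.d (l.1 + 1) j (x l) := rfl

lemma dE_dE {n j : ℕ} (x : T.E n (j + 1 + 1)) : T.dE n j (T.dE n (j + 1) x) = 0 := by
  funext l; exact T.d_d _ _ _

lemma dE_shift {m n s j : ℕ} (x : T.E n (j + 1)) :
    T.dE m j (T.shift m n s (j + 1) x) = T.shift m n s j (T.dE n j x) := by
  funext l
  by_cases h : l.1 + s < n
  · rw [dE_apply, T.shift_apply_of_lt _ l h, T.shift_apply_of_lt _ l h, T.d_π, dE_apply]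
  · rw [dE_apply, T.shift_apply_of_le _ l (by omega), T.shift_apply_of_le _ l (by omega), map_zero]

/-- The transition of the slots. -/
noncomputable abbrev πE (m n j : ℕ) : T.E n j →ₗ[A] T.E m j := T.shift m n (n - m) j

/-- `X - a`. -/
noncomputable def φ (n j : ℕ) : T.E n j →ₗ[A] T.E n j := T.shift n n 1 j - a • LinearMap.id

lemma φ_πE {m n j : ℕ} (h : m ≤ n) (x : T.E n j) :
    T.φ a m j (T.πE m n j x) = T.πE m n j (T.φ a n j x) := by
  simp only [φ, LinearMap.sub_apply, LinearMap.smul_apply, LinearMap.id_apply, map_sub, map_smul]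
  rw [T.shift_shift (by omega), T.shift_shift (by omega), Nat.add_comm]

lemma dE_φ {n j : ℕ} (x : T.E n (j + 1)) : T.dE n j (T.φ a n (j + 1) x) = T.φ a n j (T.dE n j x) := by
  simp only [φ, LinearMap.sub_apply, LinearMap.smul_apply, LinearMap.id_apply, map_sub, map_smul,
    T.dE_shift]

/-- The shifted slots. -/
def E' (n : ℕ) : ℕ → ModuleCat.{u} A
  | 0 => ModuleCat.of A PUnit.{u + 1}
  | j + 1 => ModuleCat.of A (T.E n j)

/-- The differential into the shifted slots. -/
noncomputable def dE' (n : ℕ) : ∀ j, T.E n j →ₗ[A] T.E' n j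
  | 0 => 0
  | j + 1 => T.dE n j

/-- The transition of the shifted slots. -/
noncomputable def πE' (m n : ℕ) : ∀ j, T.E' n j →ₗ[A] T.E' m j
  | 0 => 0
  | j + 1 => T.πE m n j

lemma dE'_dE {n j : ℕ} (x : T.E n (j + 1)) : T.dE' n j (T.dE n j x) = 0 := by
  cases j with
  | zero => rfl
  | succ j => exact T.dE_dE x

lemma dE'_πE {m n j : ℕ} (x : T.E n j) :
    T.dE' m j (T.πE m n j x) = T.πE' m n j (T.dE' n j x) := by
  cases j with
  | zero => rfl
  | succ j => exact T.dE_shift x

/-- The differential of the cone. -/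
noncomputable def dQ (n j : ℕ) : T.E n (j + 1) × T.E n j →ₗ[A] T.E n j × T.E' n j :=
  LinearMap.prod ((T.dE n j).comp (LinearMap.fst A _ _) + (T.φ a n j).comp (LinearMap.snd A _ _))
    (-((T.dE' n j).comp (LinearMap.snd A _ _)))

lemma dQ_apply {n j : ℕ} (x : T.E n (j + 1)) (y : T.E n j) :
    T.dQ a n j (x, y) = (T.dE n j x + T.φ a n j y, -T.dE' n j y) := rfl

/-- The cone of `X - a` on the slots. -/
noncomputable def step : Tw A where
  X n j := ModuleCat.of A (T.E n j × T.E' n j)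
  d n j := T.dQ a n j
  d_d n j z := by
    obtain ⟨x, y⟩ := z
    change T.dQ a n j (T.dE n (j + 1) x + T.φ a n (j + 1) y, -T.dE n j y) = 0
    rw [dQ_apply, map_add, T.dE_dE, T.dE_φ, map_neg, map_neg, T.dE'_dE]
    simp only [zero_add, neg_neg, add_neg_cancel]
    rfl
  π {m n} _ j := LinearMap.prodMap (T.πE m n j) (T.πE' m n j)
  π_π {k m n} h₁ h₂ j z := by
    obtain ⟨x, y⟩ := z
    refine Prod.ext ?_ ?_
    · change T.πE k m j (T.πE m n j x) = T.πE k n j x
      rw [πE, T.shift_shift (by omega), show m - k + (n - m) = n - k by omega]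
    · change T.πE' k m j (T.πE' m n j y) = T.πE' k n j y
      cases j with
      | zero => rfl
      | succ j =>
        change T.πE k m j (T.πE m n j y) = T.πE k n j y
        rw [πE, T.shift_shift (by omega), show m - k + (n - m) = n - k by omega]
  d_π {m n} h j z := by
    obtain ⟨x, y⟩ := z
    change T.dQ a m j (T.πE m n (j + 1) x, T.πE m n j y) = _
    rw [dQ_apply]
    refine Prod.ext ?_ ?_
    · change _ = T.πE m n j (T.dE n j x + T.φ a n j y)
      rw [map_add, T.φ_πE a h, πE, T.dE_shift]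
    · change _ = T.πE' m n j (-T.dE' n j y)
      rw [map_neg, ← T.dE'_πE]

/-- The condition in degree one: `ker (X - a)` on `H₀` is pro-zero with lag `c`. -/
def KerPro (c : ℕ) : Prop :=
  ∀ ⦃m n : ℕ⦄, m ≤ n → m + c ≤ n → ∀ (y : T.E n 0) (u : T.E n 1), T.dE n 0 u = T.φ a n 0 y →
    ∃ v, T.dE m 0 v = T.πE m n 0 y

variable {T a}

lemma proC_slots {c : ℕ} (hT : T.ProC c) {m n : ℕ} (hc : m + c ≤ n) {j : ℕ}
    (z : T.E n (j + 1)) (hz : T.dE n j z = 0) : ∃ w, T.dE m (j + 1) w = T.πE m n (j + 1) z := by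
  have key : ∀ l : Fin m, ∃ w, T.d (l.1 + 1) (j + 1) w = T.πE m n (j + 1) z l := fun l => by
    by_cases h : l.1 + (n - m) < n
    · rw [πE, T.shift_apply_of_lt _ l h]
      exact hT _ (by omega) j _ (congrFun hz ⟨l.1 + (n - m), h⟩)
    · exact ⟨0, by rw [map_zero, πE, T.shift_apply_of_le _ l (by omega)]⟩
  choose w hw using key
  exact ⟨w, funext hw⟩

/-- The cone is pro-exact. -/
theorem proC_step {c cK : ℕ} (hT : T.ProC c) (hK : T.KerPro a cK) :
    (T.step a).ProC (max c cK + c) := by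
  intro m n h hc j z hz
  obtain ⟨x, y⟩ := z
  obtain ⟨hz₁, hz₂⟩ := Prod.ext_iff.1 (show T.dQ a n j (x, y) = 0 from hz)
  set k := m + c
  have hkn : k ≤ n := by omega
  obtain ⟨v, hv⟩ : ∃ v, T.dE k j v = T.πE k n j y := by
    cases j with
    | zero =>
      refine hK hkn (by omega) y (-x) ?_
      rw [map_neg]
      exact neg_eq_of_add_eq_zero_right hz₁
    | succ j =>
      exact proC_slots hT (by omega) y (neg_eq_zero.1 hz₂)
  obtain ⟨w, hw⟩ := proC_slots hT (m := m) (le_refl k) (T.πE k n (j + 1) x + T.φ a k (j + 1) v) (by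
    rw [map_add, T.dE_φ, hv, T.φ_πE a hkn, πE, T.dE_shift, ← map_add]
    exact (congrArg _ hz₁).trans (map_zero _))
  refine ⟨(w, -(T.πE m k (j + 1) v)), ?_⟩
  change T.dQ a m (j + 1) (w, -(T.πE m k (j + 1) v)) = (T.πE m n (j + 1) x, T.πE m n j y)
  have e : ∀ i (q : T.E n i), T.πE m k i (T.πE k n i q) = T.πE m n i q := fun i q => by
    rw [πE, T.shift_shift (by omega), show k - m + (n - k) = n - m by omega]
  rw [dQ_apply]
  refine Prod.ext ?_ ?_
  · change T.dE m (j + 1) w + T.φ a m (j + 1) (-(T.πE m k (j + 1) v)) = T.πE m n (j + 1) x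
    rw [hw, map_add, map_neg, T.φ_πE a (Nat.le_add_right m c), e]
    abel
  · change -T.dE m j (-(T.πE m k (j + 1) v)) = T.πE m n j y
    rw [map_neg, neg_neg, πE, T.dE_shift, hv, e]

/-- Augmentation to a constant tower whose values `a ^ m₀` kills. -/
theorem kerPro_of_const {V : Type u} [AddCommGroup V] [Module A V] {m₀ : ℕ}
    (ε : ∀ n, T.X n 0 →ₗ[A] V)
    (hd : ∀ n, m₀ ≤ n → ∀ x, ε n (T.d n 0 x) = 0)
    (hker : ∀ n, m₀ ≤ n → ∀ x, ε n x = 0 → ∃ w, T.d n 0 w = x)
    (hπ : ∀ {m n : ℕ} (h : m ≤ n), m₀ ≤ m → ∀ x, ε m (T.π h 0 x) = ε n x)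
    (ha : ∀ v : V, a ^ m₀ • v = 0) : T.KerPro a (2 * m₀) := by
  intro m n hmn hc y u hu
  have hrec : ∀ i, ∀ l (hl : m₀ ≤ l) (h : l + i < n),
      ε (l + i + 1) (y ⟨l + i, h⟩) = a ^ i • ε (l + 1) (y ⟨l, by omega⟩) := by
    intro i
    induction i with
    | zero => intro l hl h; rw [pow_zero, one_smul]; rfl
    | succ i ih =>
      intro l hl h
      have h1 := congrFun hu ⟨l + i, by omega⟩
      rw [dE_apply, φ, LinearMap.sub_apply, Pi.sub_apply,
        T.shift_apply_of_lt _ _ (show l + i + 1 < n by omega), LinearMap.smul_apply,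
        LinearMap.id_apply, Pi.smul_apply] at h1
      have h2 := congrArg (ε (l + i + 1)) h1
      rw [hd _ (by omega), map_sub, map_smul, hπ _ (by omega), eq_comm, sub_eq_zero,
        ih l hl (by omega), smul_smul, ← pow_succ'] at h2
      exact h2
  have key : ∀ l : Fin m, ∃ w, T.d (l.1 + 1) 0 w = T.πE m n 0 y l := fun l => by
    by_cases h : l.1 + (n - m) < n
    · obtain ⟨l₀, hl₀⟩ : ∃ l₀, l.1 + (n - m) = l₀ + m₀ := ⟨l.1 + (n - m) - m₀, by omega⟩
      have h0 := hrec m₀ l₀ (by omega) (by omega)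
      rw [ha] at h0
      obtain ⟨w, hw⟩ := hker _ (by omega) _ h0
      refine ⟨T.π (show l.1 + 1 ≤ l₀ + m₀ + 1 by omega) 1 w, ?_⟩
      rw [T.d_π, hw, πE, T.shift_apply_of_lt _ l h]
      refine T.π_congr y (l := (⟨l₀ + m₀, by omega⟩ : Fin n)) (l' := (⟨l.1 + (n - m), h⟩ : Fin n)) ?_ _ _
      exact Fin.ext hl₀.symm
    · exact ⟨0, by rw [map_zero, πE, T.shift_apply_of_le _ l (by omega)]⟩
  choose w hw using key
  exact ⟨w, funext hw⟩

/-- Pro-exactness passes along isomorphisms of towers. -/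
theorem proC_of_bijective {S : Tw A} {c : ℕ} (e : ∀ n j, S.X n j →ₗ[A] T.X n j)
    (hbij : ∀ n j, Function.Bijective (e n j))
    (hd : ∀ n j x, e n j (S.d n j x) = T.d n j (e n (j + 1) x))
    (hπ : ∀ {m n : ℕ} (h : m ≤ n) (j : ℕ) x, e m j (S.π h j x) = T.π h j (e n j x))
    (hT : T.ProC c) : S.ProC c := by
  intro m n h hc j z hz
  obtain ⟨w, hw⟩ := hT h hc j (e n (j + 1) z) (by rw [← hd, hz, map_zero])
  obtain ⟨w', rfl⟩ := (hbij m (j + 1 + 1)).2 w
  exact ⟨w', (hbij m (j + 1)).1 (by rw [hd, hw, hπ])⟩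

end Tw

/-- Tensoring a tower with a module. -/
noncomputable def Tw.tens (T : Tw A) (M : Type u) [AddCommGroup M] [Module A M] : Tw A where
  X n j := ModuleCat.of A (M ⊗[A] T.X n j)
  d n j := (T.d n j).lTensor M
  d_d n j x := by
    change (T.d n j).lTensor M ((T.d n (j + 1)).lTensor M x) = 0
    rw [← LinearMap.lTensor_comp_apply, show (T.d n j).comp (T.d n (j + 1)) = 0 from
      LinearMap.ext (T.d_d n j), LinearMap.lTensor_zero]
    rfl
  π h j := (T.π h j).lTensor M
  π_π h₁ h₂ j x := by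
    change (T.π h₁ j).lTensor M ((T.π h₂ j).lTensor M x) = _
    rw [← LinearMap.lTensor_comp_apply, show (T.π h₁ j).comp (T.π h₂ j) = T.π (h₁.trans h₂) j from
      LinearMap.ext (T.π_π h₁ h₂ j)]
  d_π {m n} h j x := by
    change (T.d m j).lTensor M ((T.π h (j + 1)).lTensor M x) = (T.π h j).lTensor M ((T.d n j).lTensor M x)
    rw [← LinearMap.lTensor_comp_apply, ← LinearMap.lTensor_comp_apply,
      show (T.d m j).comp (T.π h (j + 1)) = (T.π h j).comp (T.d n j) from LinearMap.ext (T.d_π h j)]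

namespace Tw

variable (T : Tw A) (a : A) (M : Type u) [AddCommGroup M] [Module A M]

/-- Tensoring commutes with slots. -/
noncomputable def tensE (n j : ℕ) : M ⊗[A] T.E n j →ₗ[A] (T.tens M).E n j :=
  (TensorProduct.piRight A A M fun l : Fin n => T.X (l.1 + 1) j).toLinearMap

lemma tensE_tmul {n j : ℕ} (x : M) (v : T.E n j) (l : Fin n) :
    T.tensE M n j (x ⊗ₜ v) l = x ⊗ₜ v l := rfl

lemma tensE_shift {m n s j : ℕ} (z : M ⊗[A] T.E n j) :
    T.tensE M m j ((T.shift m n s j).lTensor M z) = (T.tens M).shift m n s j (T.tensE M n j z) := by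
  induction z using TensorProduct.induction_on with
  | zero => simp only [map_zero]
  | add p q hp hq => simp only [map_add, hp, hq]
  | tmul x v =>
    funext l
    rw [LinearMap.lTensor_tmul, tensE_tmul]
    by_cases h : l.1 + s < n
    · rw [(T.tens M).shift_apply_of_lt _ l h, T.shift_apply_of_lt _ l h]
      rfl
    · rw [(T.tens M).shift_apply_of_le _ l (by omega), T.shift_apply_of_le _ l (by omega),
        TensorProduct.tmul_zero]
      rfl

lemma tensE_dE {n j : ℕ} (z : M ⊗[A] T.E n (j + 1)) :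
    T.tensE M n j ((T.dE n j).lTensor M z) = (T.tens M).dE n j (T.tensE M n (j + 1) z) := by
  induction z using TensorProduct.induction_on with
  | zero => simp only [map_zero]
  | add p q hp hq => simp only [map_add, hp, hq]
  | tmul x v => funext l; rfl

lemma tensE_φ {n j : ℕ} (z : M ⊗[A] T.E n j) :
    T.tensE M n j ((T.φ a n j).lTensor M z) = (T.tens M).φ a n j (T.tensE M n j z) := by
  simp only [φ, LinearMap.lTensor_sub, LinearMap.lTensor_smul, LinearMap.lTensor_id,
    LinearMap.sub_apply, LinearMap.smul_apply, LinearMap.id_apply, map_sub, map_smul, tensE_shift]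

/-- Tensoring commutes with shifted slots. -/
noncomputable def tensE' (n : ℕ) : ∀ j, M ⊗[A] T.E' n j →ₗ[A] (T.tens M).E' n j
  | 0 => 0
  | j + 1 => T.tensE M n j

lemma tensE'_bijective (n : ℕ) : ∀ j, Function.Bijective (T.tensE' M n j)
  | 0 => by
    haveI : Subsingleton (T.E' n 0) := inferInstanceAs (Subsingleton PUnit)
    haveI : Subsingleton ((T.tens M).E' n 0) := inferInstanceAs (Subsingleton PUnit)
    exact ⟨fun p q _ => Subsingleton.elim _ _, fun p => ⟨0, Subsingleton.elim _ _⟩⟩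
  | j + 1 => (TensorProduct.piRight A A M fun l : Fin n => T.X (l.1 + 1) j).bijective

/-- Tensoring commutes with the cone. -/
noncomputable def tensQ (n j : ℕ) :
    ((T.step a).tens M).X n j →ₗ[A] ((T.tens M).step a).X n j :=
  ((T.tensE M n j).prodMap (T.tensE' M n j)).comp
    (TensorProduct.prodRight A A M (T.E n j) (T.E' n j)).toLinearMap

theorem tensQ_tmul {n j : ℕ} (x : M) (p : T.E n j) (q : T.E' n j) :
    T.tensQ a M n j (x ⊗ₜ (p, q)) = (T.tensE M n j (x ⊗ₜ p), T.tensE' M n j (x ⊗ₜ q)) := rfl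

theorem proC_tens_step {c : ℕ} (h : ((T.tens M).step a).ProC c) : ((T.step a).tens M).ProC c := by
  refine proC_of_bijective (T.tensQ a M)
    (fun n j => ((TensorProduct.piRight A A M fun l : Fin n => T.X (l.1 + 1) j).bijective.prodMap
      (T.tensE'_bijective M n j)).comp
        (TensorProduct.prodRight A A M (T.E n j) (T.E' n j)).bijective) (fun n j z => ?_)
    (fun {m n} hmn j z => ?_) h
  · induction z using TensorProduct.induction_on with
    | zero => exact (congrArg _ (map_zero _)).trans ((map_zero _).trans ((congrArg _ (map_zero _)).trans (map_zero _)).symm)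
    | add p q hp hq =>
      refine (congrArg _ (map_add _ _ _)).trans ((map_add _ _ _).trans ?_)
      rw [hp, hq]
      exact ((congrArg _ (map_add _ _ _)).trans (map_add _ _ _)).symm
    | tmul x v =>
      obtain ⟨p, q⟩ := v
      change T.tensQ a M n j (x ⊗ₜ[A] (T.dE n j p + T.φ a n j q, -T.dE' n j q)) = _
      change _ = (T.tens M).dQ a n j (T.tensE M n (j + 1) (x ⊗ₜ[A] p), T.tensE M n j (x ⊗ₜ[A] q))
      rw [dQ_apply, tensQ_tmul]
      refine Prod.ext ?_ ?_
      · change T.tensE M n j (x ⊗ₜ[A] (T.dE n j p + T.φ a n j q)) = _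
        rw [TensorProduct.tmul_add, map_add, ← LinearMap.lTensor_tmul M (T.dE n j),
          ← LinearMap.lTensor_tmul M (T.φ a n j), tensE_dE, tensE_φ]
      · change T.tensE' M n j (x ⊗ₜ[A] (-T.dE' n j q)) = _
        rw [TensorProduct.tmul_neg, map_neg]
        cases j with
        | zero => rfl
        | succ j =>
          refine congrArg Neg.neg ?_
          change T.tensE M n j (x ⊗ₜ[A] T.dE n j q) = _
          rw [← LinearMap.lTensor_tmul M (T.dE n j), tensE_dE]
          rfl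
  · induction z using TensorProduct.induction_on with
    | zero => exact (congrArg _ (map_zero _)).trans ((map_zero _).trans ((congrArg _ (map_zero _)).trans (map_zero _)).symm)
    | add p q hp hq =>
      refine (congrArg _ (map_add _ _ _)).trans ((map_add _ _ _).trans ?_)
      rw [hp, hq]
      exact ((congrArg _ (map_add _ _ _)).trans (map_add _ _ _)).symm
    | tmul x v =>
      obtain ⟨p, q⟩ := v
      change T.tensQ a M m j (x ⊗ₜ[A] (T.πE m n j p, T.πE' m n j q)) = _
      rw [tensQ_tmul, tensQ_tmul]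
      refine Prod.ext ?_ ?_
      · change T.tensE M m j (x ⊗ₜ[A] T.πE m n j p) = (T.tens M).πE m n j (T.tensE M n j (x ⊗ₜ[A] p))
        rw [← LinearMap.lTensor_tmul M (T.πE m n j), tensE_shift]
      · change T.tensE' M m j (x ⊗ₜ[A] T.πE' m n j q) = (T.tens M).πE' m n j (T.tensE' M n j (x ⊗ₜ[A] q))
        cases j with
        | zero => rfl
        | succ j =>
          change T.tensE M m j (x ⊗ₜ[A] T.πE m n j q) = (T.tens M).πE m n j (T.tensE M n j (x ⊗ₜ[A] q))
          rw [← LinearMap.lTensor_tmul M (T.πE m n j), tensE_shift]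

end Tw

end Groth.LocCohTor
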